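import Cfsg.Agent.ClassSize.SquareFree.Supersolvable
import Cfsg.Agent.Coprime.Fitting
import Cfsg.Agent.SolvStruct.NilpotentHall
import Cfsg.Agent.SolvStruct.Huppert
import Cfsg.Agent.Components.GenFitting

/-!
Groups whose class sizes are square-free: the derived subgroup.
-/

set_option autoImplicit false
set_option linter.unusedSectionVars false
set_option linter.style.haveILetI false

namespace Cfsg.Lib.SquareFreeClasses

open Subgroup Cfsg.Lib.ClassSize Cfsg.Lib.FourSizes
open scoped commutatorElement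

universe u

variable {G : Type u} [Group G] [Finite G]

/-- A `p`-group with class sizes at most `p` has derived subgroup of order at most `p`. -/
theorem card_commutator_le_of_breadth {p : ℕ} [hp : Fact p.Prime] {P : Type u} [Group P] [Finite P]
    (hP : IsPGroup p P) (h : ∀ x : P, cs x ∣ p) : Nat.card (commutator P) ≤ p := by
  classical
  have htop : IsPGroup p (⊤ : Subgroup P) := hP.to_subgroup ⊤
  have hC : ∀ a x y : P, x * y * x⁻¹ * y⁻¹ ∈ centralizer ({a} : Set P) := fun a x y =>
    (pow_mem_of_relIndex_dvd htop le_top (by rw [relIndex_top_right]; exact h a)).2.2 x (mem_top x) y (mem_top y)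
  have hCp : ∀ a x : P, x ^ p ∈ centralizer ({a} : Set P) := fun a x =>
    (pow_mem_of_relIndex_dvd htop le_top (by rw [relIndex_top_right]; exact h a)).2.1 x (mem_top x)
  have hcen : ∀ x y : P, ⁅x, y⁆ ∈ center P := fun x y => Subgroup.mem_center_iff.mpr fun a => by
    rw [commutatorElement_def]
    exact (mem_cent.mp (hC a x y)).eq.symm
  have hmulr : ∀ a x y : P, ⁅a, x * y⁆ = ⁅a, x⁆ * ⁅a, y⁆ := fun a x y => by
    have h1 : ⁅a, x * y⁆ = ⁅a, x⁆ * (x * ⁅a, y⁆ * x⁻¹) := by simp only [commutatorElement_def]; group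
    rw [h1, (Subgroup.mem_center_iff.mp (hcen a y) x : x * ⁅a, y⁆ = ⁅a, y⁆ * x), mul_inv_cancel_right]
  have hmull : ∀ a b x : P, ⁅a * b, x⁆ = ⁅a, x⁆ * ⁅b, x⁆ := fun a b x => by
    have h1 : ⁅a * b, x⁆ = a * ⁅b, x⁆ * a⁻¹ * ⁅a, x⁆ := by simp only [commutatorElement_def]; group
    rw [h1, (Subgroup.mem_center_iff.mp (hcen b x) a : a * ⁅b, x⁆ = ⁅b, x⁆ * a), mul_inv_cancel_right]
    exact Subgroup.mem_center_iff.mp (hcen a x) _
  let f : P → (P →* P) := fun a => MonoidHom.mk' (fun x => ⁅a, x⁆) (hmulr a)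
  have hfker : ∀ a x : P, f a x = 1 ↔ x ∈ centralizer ({a} : Set P) := fun a x => by
    show ⁅a, x⁆ = 1 ↔ _
    rw [commutatorElement_eq_one_iff_commute, mem_cent]
    exact ⟨Commute.symm, Commute.symm⟩
  have hrange : ∀ a : P, Nat.card (f a).range ∣ p := fun a => by
    have he : (f a).ker = centralizer ({a} : Set P) := by
      ext x
      rw [MonoidHom.mem_ker, hfker]
    rw [← Nat.card_congr (QuotientGroup.quotientKerEquivRange (f a)).toEquiv, he, ← index_eq_card]
    exact h a
  -- equal ranges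
  have hN : ∀ a c : P, ⁅a, c⁆ ≠ 1 → (f a).range = (f c).range := by
    intro a c hac
    have key : ∀ e w : P, w ∈ (f e).range → w ≠ 1 → (f e).range = zpowers w := by
      intro e w hw hw1
      refine (eq_of_le_of_card_ge (zpowers_le.mpr hw) ?_).symm
      refine (Nat.le_of_dvd hp.out.pos (hrange e)).trans ?_
      rw [Nat.card_zpowers]
      obtain ⟨k, hk⟩ := IsPGroup.iff_orderOf.mp hP w
      rw [hk]
      refine Nat.le_self_pow (fun h0 => hw1 (orderOf_eq_one_iff.mp ?_)) p
      rw [hk, h0, pow_zero]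
    have h1 : ⁅a, c⁆ ∈ (f a).range := ⟨c, rfl⟩
    have h2 : ⁅a, c⁆ ∈ (f c).range := by
      rw [← commutatorElement_inv]
      exact inv_mem ⟨a, rfl⟩
    rw [key a _ h1 hac, key c _ h2 hac]
  by_cases hall : ∀ a : P, a ∈ center P
  · have hb : commutator P = ⊥ := by
      rw [_root_.commutator_def, commutator_eq_bot_iff_le_centralizer]
      exact fun a _ => mem_centralizer_iff.mpr fun b _ => (Subgroup.mem_center_iff.mp (hall a) b)
    rw [hb, card_bot]
    exact hp.out.one_lt.le
  push Not at hall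
  obtain ⟨a, ha⟩ := hall
  suffices hsame : ∀ b : P, b ∉ center P → (f b).range = (f a).range by
    refine le_trans (Nat.le_of_dvd Nat.card_pos (card_dvd_of_le ?_)) (Nat.le_of_dvd hp.out.pos (hrange a))
    rw [_root_.commutator_def]
    refine commutator_le.mpr fun x _ y _ => ?_
    by_cases hx : x ∈ center P
    · rw [commutatorElement_eq_one_iff_commute.mpr (Subgroup.mem_center_iff.mp hx y : y * x = x * y).symm]
      exact one_mem _
    · rw [← hsame x hx]
      exact ⟨y, rfl⟩
  intro b hb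
  by_cases hab : ⁅b, a⁆ = 1
  swap
  · exact hN b a hab
  -- an element commuting with neither
  obtain ⟨c, hca, hcb⟩ : ∃ c : P, ⁅a, c⁆ ≠ 1 ∧ ⁅b, c⁆ ≠ 1 := by
    have hne : ∀ e : P, e ∉ center P → ∃ c : P, ⁅e, c⁆ ≠ 1 := fun e he => by
      by_contra h0
      push Not at h0
      exact he (Subgroup.mem_center_iff.mpr fun c => (commutatorElement_eq_one_iff_commute.mp (h0 c)).eq.symm)
    obtain ⟨c₁, hc₁⟩ := hne a ha
    obtain ⟨c₂, hc₂⟩ := hne b hb
    by_cases h1 : ⁅b, c₁⁆ = 1
    · by_cases h2 : ⁅a, c₂⁆ = 1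
      · refine ⟨c₁ * c₂, ?_, ?_⟩
        · rw [hmulr, h2, mul_one]; exact hc₁
        · rw [hmulr, h1, one_mul]; exact hc₂
      · exact ⟨c₂, h2, hc₂⟩
    · exact ⟨c₁, hc₁, h1⟩
  rw [hN b c hcb, ← hN a c hca]

theorem commutator_le_fitting (hss : Cfsg.IsSupersolvable G) : commutator G ≤ fittingSubgroup G :=
  Cfsg.Lib.Components.le_fitting (Cfsg.Lib.SolvStruct.isNilpotent_commutator_of_isSupersolvable hss)

/-- A `p'`-element acting with a centraliser of index at most `p` on the normal Sylow subgroup. -/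
theorem relIndex_cent_dvd {p : ℕ} [hp : Fact p.Prime] {P : Subgroup G} [P.Normal] (hP : IsPGroup p P)
    (hsf : ∀ x : G, ¬ p ^ 2 ∣ cs x) (x : G) : (centralizer ({x} : Set G)).relIndex P ∣ p := by
  set C := centralizer ({x} : Set G)
  have e1 := relIndex_mul_index (inf_le_left : P ⊓ C ≤ P)
  have e2 := relIndex_mul_index (inf_le_right : P ⊓ C ≤ C)
  rw [inf_relIndex_left] at e1
  rw [inf_relIndex_right, ← e1] at e2
  obtain ⟨k, hk⟩ := relIndex_dvd_index_of_normal P C
  rw [hk] at e2
  have hpos : 0 < P.relIndex C := Nat.pos_of_ne_zero fun h0 =>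
    P.index_ne_zero_of_finite (by rw [hk, h0, zero_mul])
  have hd : C.relIndex P ∣ cs x := ⟨k, Nat.eq_of_mul_eq_mul_left hpos
    (by show P.relIndex C * C.index = _; rw [e2]; ring)⟩
  obtain ⟨a, ha⟩ := IsPGroup.iff_card.mp hP
  obtain ⟨j, -, hj⟩ := (Nat.dvd_prime_pow hp.out).mp (ha ▸ relIndex_dvd_card C P)
  rw [hj] at hd ⊢
  refine (pow_dvd_pow p (?_ : j ≤ 1)).trans (pow_one p).dvd
  by_contra hj2
  exact hsf x ((pow_dvd_pow p (by omega)).trans hd)

/-- The derived subgroup when `O_{p'}(G) = 1`. -/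
theorem card_commutator_le {p : ℕ} [hp : Fact p.Prime] (hss : Cfsg.IsSupersolvable G)
    (hQ : pPrimeCore p G = ⊥) (hsf : ∀ x : G, ¬ p ^ 2 ∣ cs x) : Nat.card (commutator G) ≤ p := by
  classical
  haveI : Group.IsSolvable G := Cfsg.Lib.SolvStruct.Huppert.isSolvable_of_isSupersolvable' hss
  set P := pCore p G with hPdef
  have hP : IsPGroup p P := Cfsg.Lib.Components.isPGroup_pCore p
  have hCP : centralizer (P : Set G) ≤ P := Cfsg.Lib.Coprime.centralizer_pCore_le p hQ
  have hG'P : commutator G ≤ P := by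
    rw [hPdef, ← Cfsg.Lib.Coprime.fitting_eq_pCore p hQ]
    exact commutator_le_fitting hss
  have habel : ∀ x y : G, ⁅x, y⁆ ∈ P := fun x y =>
    hG'P (commutator_mem_commutator (mem_top x) (mem_top y))
  have hPel : ∀ x : G, PEl p x → x ∈ P := by
    intro x hx
    obtain ⟨S, hS⟩ := (pel_isPGroup hx).exists_le_sylow
    have hle : P ≤ (S : Subgroup G) := Cfsg.Lib.Coprime.pCore_le_sylow p S
    haveI : (S : Subgroup G).Normal := ⟨fun a ha g => by
      have h1 : g * a * g⁻¹ = ⁅g, a⁆ * a := by rw [commutatorElement_def, inv_mul_cancel_right]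
      rw [h1]
      exact mul_mem (hle (habel g a)) ha⟩
    exact Cfsg.Lib.Components.le_pCore S.2 (hS (mem_zpowers x))
  have hC : ∀ x : G, (centralizer ({x} : Set G)).relIndex P ∣ p := relIndex_cent_dvd hP hsf
  by_cases htop : ∀ h : G, (orderOf h).Coprime p → h = 1
  · have hG : IsPGroup p G := IsPGroup.iff_orderOf.mpr fun g => by
      obtain ⟨a, b, hab, -, -, hap, hbp⟩ := exists_parts hp.out g
      rw [hab, htop b hbp, mul_one]
      exact hap
    refine card_commutator_le_of_breadth hG fun x => ?_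
    obtain ⟨k, hk⟩ := IsPGroup.iff_card.mp hG
    obtain ⟨j, -, hj⟩ := (Nat.dvd_prime_pow hp.out).mp (hk ▸ index_dvd_card (centralizer ({x} : Set G)))
    rw [cs, hj]
    refine (pow_dvd_pow p (?_ : j ≤ 1)).trans (pow_one p).dvd
    by_contra hj2
    exact hsf x (show p ^ 2 ∣ (centralizer ({x} : Set G)).index from hj ▸ pow_dvd_pow p (by omega))
  push Not at htop
  obtain ⟨h₀, hh₀, hh₀1⟩ := htop
  -- for `p'`-elements the index is exactly `p`
  have hne : ∀ h : G, (orderOf h).Coprime p → h ≠ 1 →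
      (centralizer ({h} : Set G)).relIndex P = p := by
    intro h hh h1
    refine ((Nat.dvd_prime hp.out).mp (hC h)).resolve_left fun he => h1 ?_
    have hhP : h ∈ P := hCP (mem_centralizer_iff.mpr fun v hv =>
      (mem_cent.mp (relIndex_eq_one.mp he hv)).eq)
    obtain ⟨k, hk⟩ := pel_of_mem hP hhP
    refine orderOf_eq_one_iff.mp (Nat.eq_one_of_dvd_coprimes (hh.pow_right k) dvd_rfl (by rw [hk]))
  have hPc : ∀ v ∈ P, ∀ w ∈ P, Commute v w := by
    set M := P ⊓ centralizer ({h₀} : Set G) with hM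
    have hMP : M ≤ P := inf_le_left
    have hMi : M.relIndex P = p := by rw [hM, inf_relIndex_left]; exact hne h₀ hh₀ hh₀1
    have hMc : ∀ v ∈ M, ∀ w ∈ M, Commute v w := by
      intro v hv w hw
      have hcv : (orderOf h₀).Coprime (orderOf v) := by
        obtain ⟨k, hk⟩ := pel_of_mem hP hv.1
        rw [hk]; exact hh₀.pow_right k
      have e := cent_mul_of_coprime (mem_cent.mp hv.2).symm hcv
      have h1 := hC (h₀ * v)
      rw [e, ← inf_relIndex_left, ← inf_assoc] at h1
      have h2 : M ⊓ centralizer ({v} : Set G) = M := by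
        refine eq_of_le_of_card_ge inf_le_left ?_
        have e1 := relIndex_mul_relIndex ⊥ M P bot_le hMP
        have e2 := relIndex_mul_relIndex ⊥ (M ⊓ centralizer ({v} : Set G)) P bot_le (inf_le_left.trans hMP)
        rw [relIndex_bot_left, relIndex_bot_left, hMi] at e1
        rw [relIndex_bot_left, relIndex_bot_left] at e2
        refine Nat.le_of_mul_le_mul_right ?_ hp.out.pos
        rw [e1, ← e2]
        exact Nat.mul_le_mul_left _ (Nat.le_of_dvd hp.out.pos h1)
      exact (mem_cent.mp (inf_eq_left.mp h2 hw)).symm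
    obtain ⟨hMn, -, -⟩ := pow_mem_of_relIndex_dvd hP hMP hMi.dvd
    have hfix : ∀ v ∈ P, Commute h₀ (v⁻¹ * (h₀ * v * h₀⁻¹)) → v⁻¹ * (h₀ * v * h₀⁻¹) = 1 := by
      intro v hv hc
      set c := v⁻¹ * (h₀ * v * h₀⁻¹) with hcdef
      have hit : ∀ j : ℕ, h₀ ^ j * v * (h₀ ^ j)⁻¹ = v * c ^ j := by
        intro j
        induction j with
        | zero => simp
        | succ j ih =>
          calc h₀ ^ (j + 1) * v * (h₀ ^ (j + 1))⁻¹ = h₀ * (h₀ ^ j * v * (h₀ ^ j)⁻¹) * h₀⁻¹ := by
                rw [pow_succ']; group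
            _ = h₀ * v * h₀⁻¹ * (h₀ * c ^ j * h₀⁻¹) := by rw [ih]; group
            _ = v * c * c ^ j := by
                rw [(hc.pow_right j).eq, mul_inv_cancel_right, hcdef, mul_inv_cancel_left]
            _ = v * c ^ (j + 1) := by rw [pow_succ', mul_assoc]
      have h1 := hit (orderOf h₀)
      rw [pow_orderOf_eq_one, inv_one, mul_one, one_mul, eq_comm, mul_eq_left] at h1
      have hcP : c ∈ P := mul_mem (inv_mem hv) ((inferInstance : P.Normal).conj_mem v hv h₀)
      obtain ⟨k, hk⟩ := pel_of_mem hP hcP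
      exact orderOf_eq_one_iff.mp (Nat.eq_one_of_dvd_coprimes (hh₀.pow_right k)
        (orderOf_dvd_of_pow_eq_one h1) (by rw [hk]))
    obtain ⟨v₀, hv₀, hv₀M⟩ : ∃ v ∈ P, v ∉ M := by
      by_contra h'
      push Not at h'
      rw [relIndex_eq_one.mpr h'] at hMi
      exact hp.out.one_lt.ne hMi
    set c := v₀⁻¹ * (h₀ * v₀ * h₀⁻¹) with hcdef
    have hcP : c ∈ P := mul_mem (inv_mem hv₀) ((inferInstance : P.Normal).conj_mem v₀ hv₀ h₀)
    have hcM : c ∉ M := fun h' => by
      have h1 := hfix v₀ hv₀ (mem_cent.mp h'.2).symm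
      rw [inv_mul_eq_one, eq_mul_inv_iff_mul_eq] at h1
      exact hv₀M ⟨hv₀, mem_cent.mpr h1⟩
    have hcc : ∀ w ∈ M, Commute c w := by
      intro w hw
      have hw' : v₀ * w * v₀⁻¹ ∈ M :=
        mem_subgroupOf.mp (hMn.conj_mem ⟨w, hw.1⟩ (mem_subgroupOf.mpr hw) ⟨v₀, hv₀⟩)
      have h1 : h₀ * (v₀ * w * v₀⁻¹) * h₀⁻¹ = v₀ * w * v₀⁻¹ := by
        rw [(mem_cent.mp hw'.2).symm.eq, mul_inv_cancel_right]
      have hwfix : h₀ * w * h₀⁻¹ = w := by
        rw [(mem_cent.mp hw.2).symm.eq, mul_inv_cancel_right]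
      have h3 : c * w * c⁻¹ = w := by
        calc c * w * c⁻¹ = c * (h₀ * w * h₀⁻¹) * c⁻¹ := by rw [hwfix]
          _ = v₀⁻¹ * (h₀ * (v₀ * w * v₀⁻¹) * h₀⁻¹) * v₀ := by rw [hcdef]; group
          _ = w := by rw [h1]; group
      exact mul_inv_eq_iff_eq_mul.mp h3
    have hMc' : ∀ w ∈ M, ∀ v ∈ P, Commute w v := by
      intro w hw
      have hle : M ⊔ zpowers c ≤ centralizer ({w} : Set G) :=
        sup_le (fun y hy => mem_cent.mpr (hMc y hy w hw)) (zpowers_le.mpr (mem_cent.mpr (hcc w hw)))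
      have htop' : P ≤ M ⊔ zpowers c := by
        rcases (Nat.dvd_prime hp.out).mp
          ((relIndex_dvd_of_le_left P (le_sup_left : M ≤ M ⊔ zpowers c)).trans hMi.dvd) with e | e
        · exact relIndex_eq_one.mp e
        · exfalso
          have hsP : M ⊔ zpowers c ≤ P := sup_le hMP (zpowers_le.mpr hcP)
          have e1 := relIndex_mul_relIndex M (M ⊔ zpowers c) P le_sup_left hsP
          rw [e, hMi, mul_eq_right₀ hp.out.ne_zero] at e1
          exact hcM (relIndex_eq_one.mp e1 (mem_sup_right (mem_zpowers c)))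
      exact fun v hv => (mem_cent.mp (hle (htop' hv))).symm
    have htop' : P ≤ M ⊔ zpowers c := by
      rcases (Nat.dvd_prime hp.out).mp
        ((relIndex_dvd_of_le_left P (le_sup_left : M ≤ M ⊔ zpowers c)).trans hMi.dvd) with e | e
      · exact relIndex_eq_one.mp e
      · exfalso
        have hsP : M ⊔ zpowers c ≤ P := sup_le hMP (zpowers_le.mpr hcP)
        have e1 := relIndex_mul_relIndex M (M ⊔ zpowers c) P le_sup_left hsP
        rw [e, hMi, mul_eq_right₀ hp.out.ne_zero] at e1
        exact hcM (relIndex_eq_one.mp e1 (mem_sup_right (mem_zpowers c)))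
    have hcP' : ∀ w ∈ P, Commute c w := by
      have hle : M ⊔ zpowers c ≤ centralizer ({c} : Set G) :=
        sup_le (fun y hy => mem_cent.mpr (hMc' y hy c hcP)) (zpowers_le.mpr (mem_cent.mpr (Commute.refl c)))
      exact fun w hw => (mem_cent.mp (hle (htop' hw))).symm
    intro v hv w hw
    have hle : M ⊔ zpowers c ≤ centralizer ({w} : Set G) :=
      sup_le (fun y hy => mem_cent.mpr (hMc' y hy w hw)) (zpowers_le.mpr (mem_cent.mpr (hcP' w hw)))
    exact mem_cent.mp (hle (htop' hv))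
  haveI : IsMulCommutative P := ⟨⟨fun a b => Subtype.ext (hPc a a.2 b b.2).eq⟩⟩
  -- commutation with `h`
  let ψ : G → (P →* G) := fun h => MonoidHom.mk' (fun v => h * (v : G) * h⁻¹ * (v : G)⁻¹) fun v w => by
    have hhw : h * (w : G) * h⁻¹ * (w : G)⁻¹ ∈ P :=
      mul_mem ((inferInstance : P.Normal).conj_mem _ w.2 h) (inv_mem w.2)
    calc h * ((v * w : P) : G) * h⁻¹ * ((v * w : P) : G)⁻¹
        = h * (v : G) * h⁻¹ * (h * (w : G) * h⁻¹ * (w : G)⁻¹ * (v : G)⁻¹) := by
          rw [Subgroup.coe_mul]; group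
      _ = h * (v : G) * h⁻¹ * ((v : G)⁻¹ * (h * (w : G) * h⁻¹ * (w : G)⁻¹)) := by
          rw [(hPc _ hhw _ (inv_mem v.2)).eq]
      _ = _ := by group
  have hψP : ∀ h : G, ∀ v : P, ψ h v ∈ P := fun h v =>
    mul_mem ((inferInstance : P.Normal).conj_mem _ v.2 h) (inv_mem v.2)
  have hψker : ∀ h : G, (ψ h).ker = (centralizer ({h} : Set G)).subgroupOf P := fun h => by
    ext v
    rw [MonoidHom.mem_ker, mem_subgroupOf, mem_cent]
    show h * (v : G) * h⁻¹ * (v : G)⁻¹ = 1 ↔ _
    rw [mul_inv_eq_one, mul_inv_eq_iff_eq_mul]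
    exact ⟨fun e => Commute.symm e, fun e => e.symm.eq⟩
  have hψcard : ∀ h : G, Nat.card (ψ h).range = (centralizer ({h} : Set G)).relIndex P := fun h => by
    rw [← Nat.card_congr (QuotientGroup.quotientKerEquivRange (ψ h)).toEquiv, hψker, ← index_eq_card]
    rfl
  -- operators act commutatively
  have hact : ∀ g h : G, ∀ v : G, v ∈ P → g * (h * v * h⁻¹) * g⁻¹ = h * (g * v * g⁻¹) * h⁻¹ := by
    intro g h v hv
    have h2 : Commute ⁅g, h⁆ (h * (g * v * g⁻¹) * h⁻¹) := hPc _ (habel g h) _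
      ((inferInstance : P.Normal).conj_mem _ ((inferInstance : P.Normal).conj_mem v hv g) h)
    calc g * (h * v * h⁻¹) * g⁻¹ = ⁅g, h⁆ * (h * (g * v * g⁻¹) * h⁻¹) * ⁅g, h⁆⁻¹ := by
          rw [commutatorElement_def]; group
      _ = _ := by rw [h2.eq, mul_inv_cancel_right]
  have hnorm : ∀ h : G, (ψ h).range.Normal := fun h => ⟨by
    rintro _ ⟨v, rfl⟩ g
    refine ⟨⟨g * (v : G) * g⁻¹, (inferInstance : P.Normal).conj_mem _ v.2 g⟩, ?_⟩
    show h * (g * (v : G) * g⁻¹) * h⁻¹ * (g * (v : G) * g⁻¹)⁻¹ =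
      g * (h * (v : G) * h⁻¹ * (v : G)⁻¹) * g⁻¹
    rw [← hact g h _ v.2]
    group⟩
  set D := (ψ h₀).range with hD
  haveI hDn : D.Normal := hnorm h₀
  have hDP : D ≤ P := by rintro _ ⟨v, rfl⟩; exact hψP h₀ v
  have hDcard : Nat.card D = p := (hψcard h₀).trans (hne h₀ hh₀ hh₀1)
  -- non-trivial `p'`-elements move only their own line
  have hfpf : ∀ h : G, (orderOf h).Coprime p → ∀ d ∈ (ψ h).range, Commute h d → d = 1 := by
    rintro h hh _ ⟨v, rfl⟩ hc
    have hit : ∀ j : ℕ, h ^ j * (v : G) * (h ^ j)⁻¹ = ψ h v ^ j * v := by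
      intro j
      induction j with
      | zero => simp
      | succ j ih =>
        calc h ^ (j + 1) * (v : G) * (h ^ (j + 1))⁻¹ = h * (h ^ j * (v : G) * (h ^ j)⁻¹) * h⁻¹ := by
              rw [pow_succ']; group
          _ = h * ψ h v ^ j * ((v : G) * h⁻¹) := by rw [ih]; group
          _ = ψ h v ^ j * (h * ((v : G) * h⁻¹)) := by rw [(hc.pow_right j).eq, mul_assoc]
          _ = ψ h v ^ j * (ψ h v * v) := by
              show ψ h v ^ j * _ = ψ h v ^ j * (h * (v : G) * h⁻¹ * (v : G)⁻¹ * v)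
              rw [inv_mul_cancel_right, mul_assoc h (v : G)]
          _ = ψ h v ^ (j + 1) * v := by simp only [pow_succ, mul_assoc]
    have h1 := hit (orderOf h)
    rw [pow_orderOf_eq_one, inv_one, mul_one, one_mul, eq_comm, mul_eq_right] at h1
    obtain ⟨k, hk⟩ := pel_of_mem hP (hψP h v)
    exact orderOf_eq_one_iff.mp (Nat.eq_one_of_dvd_coprimes (hh.pow_right k)
      (orderOf_dvd_of_pow_eq_one h1) (by rw [hk]))
  have hsame : ∀ h : G, (orderOf h).Coprime p → h ≠ 1 → (ψ h).range = D := by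
    intro h hh h1
    by_contra hne'
    set D' := (ψ h).range with hD'
    haveI : D'.Normal := hnorm h
    have hD'P : D' ≤ P := by rintro _ ⟨v, rfl⟩; exact hψP h v
    have hD'card : Nat.card D' = p := (hψcard h).trans (hne h hh h1)
    have hint : D ⊓ D' = ⊥ := by
      by_contra hb
      obtain ⟨k, hk⟩ := IsPGroup.iff_card.mp (hP.to_le (inf_le_left.trans hDP : D ⊓ D' ≤ P))
      have hge : p ≤ Nat.card (D ⊓ D' : Subgroup G) := by
        rw [hk]
        refine Nat.le_self_pow (fun h0 => hb (Subgroup.card_eq_one.mp ?_)) p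
        rw [hk, h0, pow_zero]
      have e1 : D ⊓ D' = D := eq_of_le_of_card_ge inf_le_left (hDcard ▸ hge)
      have e2 : D ⊓ D' = D' := eq_of_le_of_card_ge inf_le_right (hD'card ▸ hge)
      exact hne' (e2.symm.trans e1)
    have htriv : ∀ d ∈ D, h * d * h⁻¹ = d := fun d hd => by
      have hm : h * d * h⁻¹ * d⁻¹ ∈ D ⊓ D' :=
        mem_inf.mpr ⟨mul_mem (hDn.conj_mem d hd h) (inv_mem hd), ⟨⟨d, hDP hd⟩, rfl⟩⟩
      rw [hint, Subgroup.mem_bot, mul_inv_eq_one] at hm
      exact hm
    have htriv' : ∀ d ∈ D', h₀ * d * h₀⁻¹ = d := fun d hd => by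
      have hm : h₀ * d * h₀⁻¹ * d⁻¹ ∈ D ⊓ D' :=
        mem_inf.mpr ⟨⟨⟨d, hD'P hd⟩, rfl⟩, mul_mem ((inferInstance : D'.Normal).conj_mem d hd h₀) (inv_mem hd)⟩
      rw [hint, Subgroup.mem_bot, mul_inv_eq_one] at hm
      exact hm
    set E := P ⊓ centralizer ({h * h₀} : Set G) with hE
    have hEbot : (D ⊔ D') ⊓ E = ⊥ := (eq_bot_iff_forall _).mpr fun w hw => by
      obtain ⟨d, hd, d', hd', rfl⟩ := Subgroup.mem_sup_of_normal_right.mp hw.1
      have hc : h * h₀ * (d * d') * (h * h₀)⁻¹ = d * d' := by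
        rw [(mem_cent.mp hw.2.2).symm.eq, mul_inv_cancel_right]
      have e : h * h₀ * (d * d') * (h * h₀)⁻¹ = (h₀ * d * h₀⁻¹) * (h * d' * h⁻¹) := by
        calc h * h₀ * (d * d') * (h * h₀)⁻¹
            = h * (h₀ * d * h₀⁻¹) * h⁻¹ * (h * (h₀ * d' * h₀⁻¹) * h⁻¹) := by group
          _ = _ := by rw [htriv' d' hd', htriv _ (hDn.conj_mem d hd h₀)]
      rw [e] at hc
      have hh1 : d⁻¹ * (h₀ * d * h₀⁻¹) = d' * (h * d' * h⁻¹)⁻¹ := by
        rw [eq_mul_inv_iff_mul_eq, mul_assoc, hc, inv_mul_cancel_left]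
      have hm : d⁻¹ * (h₀ * d * h₀⁻¹) ∈ D ⊓ D' :=
        mem_inf.mpr ⟨mul_mem (inv_mem hd) (hDn.conj_mem d hd h₀),
          hh1 ▸ mul_mem hd' (inv_mem ((inferInstance : D'.Normal).conj_mem d' hd' h))⟩
      rw [hint, Subgroup.mem_bot] at hm
      have hd1 : d = 1 := hfpf h₀ hh₀ d hd (by
        rw [inv_mul_eq_one, eq_mul_inv_iff_mul_eq] at hm
        exact hm.symm)
      have hd'1 : d' = 1 := hfpf h hh d' hd' (by
        subst hd1
        simp only [mul_one, mul_inv_cancel, one_mul] at hc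
        exact mul_inv_eq_iff_eq_mul.mp hc)
      rw [hd1, hd'1, mul_one]
    have hsup : Nat.card (D ⊔ D' : Subgroup G) = p * p := by
      have h' := Cfsg.Lib.Coprime.card_sup_mul_card_inf (show D' ≤ normalizer (D : Set G) from le_normalizer_of_normal)
      rw [hint, card_bot, mul_one, hDcard, hD'card] at h'
      exact h'
    have h' := Cfsg.Lib.Coprime.card_sup_mul_card_inf
      (show E ≤ normalizer ((D ⊔ D' : Subgroup G) : Set G) from le_normalizer_of_normal)
    rw [hEbot, card_bot, mul_one, hsup] at h'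
    have h2 : p * p * Nat.card E ≤ Nat.card P := h' ▸ Nat.le_of_dvd Nat.card_pos
      (card_dvd_of_le (sup_le (sup_le hDP hD'P) inf_le_left))
    have e1 := relIndex_mul_relIndex ⊥ E P bot_le inf_le_left
    rw [relIndex_bot_left, relIndex_bot_left, hE, inf_relIndex_left] at e1
    have h3 := Nat.le_of_dvd hp.out.pos (hC (h * h₀))
    rw [← hE] at e1
    have hEpos : 0 < Nat.card E := Nat.card_pos
    have := hp.out.two_le
    nlinarith [Nat.mul_le_mul_left (Nat.card E) h3]
  -- everything commutes modulo `D`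
  set π := QuotientGroup.mk' D with hπ
  have hπone : ∀ z : G, π z = 1 ↔ z ∈ D := fun z => QuotientGroup.eq_one_iff z
  have hPcen : ∀ v ∈ P, ∀ g : G, Commute (π g) (π v) := by
    intro v hv g
    obtain ⟨a, b, hab, -, -, hap, hbp⟩ := exists_parts hp.out g
    have hb : Commute (π b) (π v) := by
      by_cases hb1 : b = 1
      · rw [hb1, map_one]; exact Commute.one_left _
      refine commutatorElement_eq_one_iff_commute.mp ?_
      rw [← map_commutatorElement, hπone, ← hsame b hbp hb1, commutatorElement_def]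
      exact ⟨⟨v, hv⟩, rfl⟩
    rw [hab, map_mul]
    exact ((hPc a (hPel a hap) v hv).map π).mul_left hb
  have hall : ∀ x y : G, Commute (π x) (π y) := by
    have hpp : ∀ b b' : G, (orderOf b).Coprime p → (orderOf b').Coprime p → Commute (π b) (π b') := by
      intro b b' hb hb'
      set c := π b * π b' * (π b)⁻¹ * (π b')⁻¹ with hc
      have hcc : ∀ g : G, Commute (π g) c := fun g => by
        have := hPcen _ (habel b b') g
        rwa [commutatorElement_def, map_mul, map_mul, map_mul, map_inv, map_inv] at this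
      have h1 : π b * π b' * (π b)⁻¹ = c * π b' := by rw [hc, inv_mul_cancel_right]
      have hit : ∀ j : ℕ, π b ^ j * π b' * (π b ^ j)⁻¹ = c ^ j * π b' := by
        intro j
        induction j with
        | zero => simp
        | succ j ih =>
          calc π b ^ (j + 1) * π b' * (π b ^ (j + 1))⁻¹
              = π b * (π b ^ j * π b' * (π b ^ j)⁻¹) * (π b)⁻¹ := by rw [pow_succ']; group
            _ = π b * c ^ j * (π b' * (π b)⁻¹) := by rw [ih]; group
            _ = c ^ j * (π b * π b' * (π b)⁻¹) := by rw [((hcc b).pow_right j).eq]; group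
            _ = c ^ (j + 1) * π b' := by rw [h1, ← mul_assoc, ← pow_succ]
      have h2 := hit (orderOf b)
      have hb1 : π b ^ orderOf b = 1 := by rw [← map_pow, pow_orderOf_eq_one, map_one]
      rw [hb1, inv_one, mul_one, one_mul, eq_comm, mul_eq_right] at h2
      obtain ⟨k, hk⟩ := pel_of_mem hP (habel b b')
      have hco : orderOf c ∣ p ^ k := by
        rw [← hk, hc]
        refine (dvd_of_eq (congrArg orderOf ?_)).trans (orderOf_map_dvd π _)
        rw [commutatorElement_def, map_mul, map_mul, map_mul, map_inv, map_inv]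
      have hc1 : c = 1 := orderOf_eq_one_iff.mp (Nat.eq_one_of_dvd_coprimes (hb.pow_right k)
        (orderOf_dvd_of_pow_eq_one h2) hco)
      rw [hc1, one_mul, mul_inv_eq_iff_eq_mul] at h1
      exact h1
    intro x y
    obtain ⟨a, b, hab, -, -, hap, hbp⟩ := exists_parts hp.out x
    obtain ⟨a', b', hab', -, -, hap', hbp'⟩ := exists_parts hp.out y
    rw [hab, hab', map_mul, map_mul]
    have k1 : ∀ g : G, Commute (π a) (π g) := fun g => (hPcen a (hPel a hap) g).symm
    exact ((k1 a').mul_right (k1 b')).mul_left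
      ((hPcen a' (hPel a' hap') b).mul_right (hpp b b' hbp hbp'))
  refine hDcard ▸ Nat.le_of_dvd Nat.card_pos (card_dvd_of_le ?_)
  rw [_root_.commutator_def]
  refine commutator_le.mpr fun x _ y _ => ?_
  rw [← hπone, map_commutatorElement, commutatorElement_eq_one_iff_commute]
  exact hall x y

theorem squarefree_card_commutator (hsf : ∀ x : G, Squarefree (cs x)) (hss : Cfsg.IsSupersolvable G) :
    Squarefree (Nat.card (commutator G)) := by
  rw [Nat.squarefree_iff_prime_squarefree]
  intro p hp hd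
  haveI := Fact.mk hp
  set Q := pPrimeCore p G with hQdef
  set π := QuotientGroup.mk' Q
  have hs := QuotientGroup.mk'_surjective Q
  have hQc : (Nat.card Q).Coprime p := Cfsg.Lib.Components.coprime_card_pPrimeCore p
  have hQbot : pPrimeCore p (G ⧸ Q) = ⊥ := by
    rw [← map_comap_eq_self_of_surjective hs (pPrimeCore p (G ⧸ Q)), eq_bot_iff,
      ← QuotientGroup.map_mk'_self Q]
    refine Subgroup.map_mono (Cfsg.Lib.Components.le_pPrimeCore ?_)
    rw [Cfsg.Lib.Coprime.card_comap_mk']
    exact hQc.mul_left (Cfsg.Lib.Components.coprime_card_pPrimeCore p)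
  have h1 : Nat.card (commutator (G ⧸ Q)) ≤ p := card_commutator_le
    (Cfsg.Lib.SolvStruct.isSupersolvable_of_surjective hss π hs) hQbot fun x hd' => by
      obtain ⟨g, rfl⟩ := hs x
      exact hp.ne_one (Nat.isUnit_iff.mp
        (((hsf g).squarefree_of_dvd (cs_quotient_dvd Q g)) p (by rwa [← pow_two])))
  have hmap : (commutator G).map π = commutator (G ⧸ Q) := by
    rw [_root_.commutator_def, map_commutator, Subgroup.map_top_of_surjective π hs, ← _root_.commutator_def]
  let f : commutator G →* G ⧸ Q := π.comp (commutator G).subtype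
  have hr : f.range = (commutator G).map π := by
    rw [MonoidHom.range_comp, range_subtype]
  have h2 := Subgroup.card_eq_card_quotient_mul_card_subgroup f.ker
  rw [Nat.card_congr (QuotientGroup.quotientKerEquivRange f).toEquiv, hr, hmap] at h2
  have h3 : (Nat.card f.ker).Coprime p := by
    refine hQc.coprime_dvd_left ?_
    rw [← card_map_of_injective (commutator G).subtype_injective (K := f.ker)]
    refine card_dvd_of_le ?_
    rintro _ ⟨x, hx, rfl⟩
    exact (QuotientGroup.eq_one_iff _).mp hx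
  rw [h2] at hd
  have hd2 : p * p ∣ Nat.card (commutator (G ⧸ Q)) :=
    (Nat.Coprime.mul_left h3.symm h3.symm).dvd_of_dvd_mul_right hd
  have := Nat.le_of_dvd Nat.card_pos hd2
  have := hp.two_le
  nlinarith

/-- The structure of a group with square-free class sizes. -/
theorem structure_of_squarefree (hsf : ∀ x : G, Squarefree (cs x)) :
    Cfsg.IsSupersolvable G ∧ IsCyclic (commutator G) ∧ Squarefree (Nat.card (commutator G)) ∧
      commutator G ≤ fittingSubgroup G ∧ Squarefree (fittingSubgroup G).index ∧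
      fittingSubgroup G ≤ centralizer (commutator G : Set G) := by
  have hsol := solvable _ G le_rfl hsf
  have hss := supersolvable _ G le_rfl hsol fun _ x _ _ => hsf x
  have hsq := squarefree_card_commutator hsf hss
  haveI := Cfsg.Lib.SolvStruct.isNilpotent_commutator_of_isSupersolvable hss
  haveI : IsZGroup (commutator G) := IsZGroup.of_squarefree hsq
  haveI hcyc : IsCyclic (commutator G) := inferInstance
  obtain ⟨⟨d, hd⟩, hgen⟩ := hcyc.exists_generator
  have hdgen : ∀ z ∈ commutator G, z ∈ zpowers d := fun z hz => by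
    obtain ⟨i, hi⟩ := mem_zpowers_iff.mp (hgen ⟨z, hz⟩)
    exact mem_zpowers_iff.mpr ⟨i, congrArg Subtype.val hi⟩
  have hle := commutator_le_fitting hss
  have hC : centralizer ({d} : Set G) = centralizer (commutator G : Set G) := le_antisymm
    (fun x hx => mem_centralizer_iff.mpr fun z hz => (mem_cent.mp (cent_le_of_mem_zpowers (hdgen z hz) hx)).symm.eq)
    (fun x hx => mem_cent.mpr (mem_centralizer_iff.mp hx d hd).symm)
  refine ⟨hss, hcyc, hsq, hle, ?_, ?_⟩
  · haveI : (centralizer (commutator G : Set G)).Normal := inferInstance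
    have hCF : centralizer (commutator G : Set G) ≤ fittingSubgroup G := by
      refine Cfsg.Lib.Components.le_fitting (Cfsg.Lib.Components.class_two_nilpotent ?_)
      rw [commutator_eq_bot_iff_le_centralizer]
      refine (commutator_mono le_top le_top : _ ≤ ⁅(⊤ : Subgroup G), ⊤⁆).trans ?_
      rw [← _root_.commutator_def]
      exact fun z hz => mem_centralizer_iff.mpr fun x hx => ((mem_centralizer_iff.mp hx z hz).symm)
    exact (hsf d).squarefree_of_dvd (show _ ∣ (centralizer ({d} : Set G)).index from hC ▸ index_dvd_of_le hCF)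
  · rw [le_centralizer_iff]
    intro z hz
    refine mem_of_parts fun r hr g hg hgr => ?_
    haveI := Fact.mk hr
    have hgG : g ∈ commutator G := zpowers_le.mpr hz hg
    obtain ⟨k, hk⟩ := hgr
    by_cases hg1 : g = 1
    · rw [hg1]; exact one_mem _
    have hk1 : k = 1 := by
      rcases k with _ | _ | k
      · exact absurd (orderOf_eq_one_iff.mp (hk.trans (pow_zero r))) hg1
      · rfl
      · exfalso
        have h2 : r ^ (k + 2) ∣ Nat.card (commutator G) := hk ▸ Subgroup.orderOf_dvd_natCard _ hgG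
        exact hr.ne_one (Nat.isUnit_iff.mp (hsq r ((Dvd.intro_left (r ^ k) (by ring)).trans h2)))
    rw [hk1, pow_one] at hk
    set F := fittingSubgroup G
    haveI : Group.IsNilpotent F := Cfsg.Lib.Components.isNilpotent_fitting
    haveI hgn : (zpowers g).Normal := ⟨fun w hw x => by
      obtain ⟨i, rfl⟩ := mem_zpowers_iff.mp hw
      rw [← conj_zpow]
      refine zpow_mem (mem_zpowers_of_orderOf_dvd (hdgen _ ?_) (hdgen g hgG) ?_) i
      · exact (inferInstance : (commutator G).Normal).conj_mem g hgG x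
      · rw [show orderOf (x * g * x⁻¹) = orderOf g from
          orderOf_injective (MulAut.conj x).toMonoidHom (MulAut.conj x).injective g]⟩
    have hne : (zpowers g).subgroupOf F ≠ ⊥ := fun h => hg1 (by
      have : (⟨g, hle hgG⟩ : F) ∈ (zpowers g).subgroupOf F := mem_subgroupOf.mpr (mem_zpowers g)
      rw [h, Subgroup.mem_bot] at this
      exact congrArg Subtype.val this)
    obtain ⟨w, hw, hw1⟩ := (bot_or_exists_ne_one _).resolve_left
      (Cfsg.Lib.Coprime.inf_center_ne_bot ((zpowers g).subgroupOf F) hne)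
    have hwo : orderOf (w : G) = orderOf g := by
      have hd' : orderOf (w : G) ∣ r := hk ▸ orderOf_dvd_of_mem_zpowers (mem_subgroupOf.mp hw.1)
      rw [hk]
      exact ((Nat.dvd_prime hr).mp hd').resolve_left fun e =>
        hw1 (Subtype.ext (orderOf_eq_one_iff.mp e))
    have hgw : g ∈ zpowers (w : G) :=
      mem_zpowers_of_orderOf_dvd (mem_zpowers g) (mem_subgroupOf.mp hw.1) hwo.symm.dvd
    refine mem_centralizer_iff.mpr fun x hx => ?_
    obtain ⟨i, hi⟩ := mem_zpowers_iff.mp hgw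
    have hxw : Commute x (w : G) := congrArg Subtype.val (Subgroup.mem_center_iff.mp hw.2 ⟨x, hx⟩)
    rw [← hi]
    exact (hxw.zpow_right i).eq

end Cfsg.Lib.SquareFreeClasses
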