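import Cfsg.Agent.ClassSize.SquareFree.Cover
import Cfsg.Agent.SolvStruct.Supersolvable
import Cfsg.Agent.Coprime.Hall
import Cfsg.Agent.Coprime.SolvableBasics

/-!
Groups whose class sizes are square-free: solvability and supersolvability.
-/

set_option autoImplicit false
set_option linter.unusedSectionVars false
set_option linter.style.haveILetI false

namespace Cfsg.Lib.SquareFreeClasses

open Subgroup Cfsg.Lib.ClassSize Cfsg.Lib.FourSizes
open scoped commutatorElement

universe u

variable {G : Type u} [Group G] [Finite G]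

theorem cs_normal_dvd (N : Subgroup G) [N.Normal] (x : N) :
    (centralizer ({x} : Set N)).index ∣ cs (x : G) := by
  have hcomap : (centralizer ({(x : G)} : Set G)).subgroupOf N = centralizer ({x} : Set N) := by
    ext z
    simp only [mem_subgroupOf, mem_centralizer_singleton_iff]
    exact ⟨fun h => Subtype.ext h, fun h => congrArg Subtype.val h⟩
  rw [← hcomap]
  show (centralizer ({(x : G)} : Set G)).relIndex N ∣ (centralizer ({(x : G)} : Set G)).index
  set C := centralizer ({(x : G)} : Set G)
  have e1 := relIndex_mul_index (inf_le_left : N ⊓ C ≤ N)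
  have e2 := relIndex_mul_index (inf_le_right : N ⊓ C ≤ C)
  rw [inf_relIndex_left] at e1
  rw [inf_relIndex_right, ← e1] at e2
  obtain ⟨k, hk⟩ := relIndex_dvd_index_of_normal N C
  rw [hk] at e2
  have hpos : 0 < N.relIndex C := Nat.pos_of_ne_zero fun h0 =>
    N.index_ne_zero_of_finite (by rw [hk, h0, zero_mul])
  refine ⟨k, Nat.eq_of_mul_eq_mul_left hpos ?_⟩
  rw [e2]; ring

theorem cs_quotient_dvd (N : Subgroup G) [N.Normal] (g : G) : cs (g : G ⧸ N) ∣ cs g := by
  have hs := QuotientGroup.mk'_surjective N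
  refine dvd_trans (index_dvd_of_le ?_) (index_map_dvd (centralizer ({g} : Set G)) hs)
  rintro _ ⟨x, hx, rfl⟩
  exact mem_cent.mpr ((mem_cent.mp hx).map (QuotientGroup.mk' N))

/-- If no class size is divisible by `p ^ 2`, a central element of a Sylow subgroup lying in its
Frattini part is central: here stated for commutators and powers. -/
theorem sylow_inner_le_center {p : ℕ} [hp : Fact p.Prime] (hcls : ∀ x : G, ¬ p ^ 2 ∣ cs x)
    (P : Sylow p G) {z : G} (hzP : z ∈ (P : Subgroup G))
    (hzmem : ∀ W : Subgroup G, W ≤ (P : Subgroup G) → W.relIndex (P : Subgroup G) ∣ p → z ∈ W) :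
    z ∈ center G := by
  by_contra hzc
  have hne : centralizer ({z} : Set G) ≠ ⊤ := fun h => hzc (Subgroup.mem_center_iff.mpr fun g =>
    (mem_cent.mp (h ▸ mem_top g : g ∈ centralizer ({z} : Set G))).eq)
  obtain ⟨x, hx⟩ := Cfsg.Lib.SolvStruct.exists_not_mem_conj _ hne
  obtain ⟨R⟩ : Nonempty (Sylow p (centralizer ({x} : Set G))) := inferInstance
  obtain ⟨S, hS⟩ := (R.2.map (centralizer ({x} : Set G)).subtype).exists_le_sylow
  obtain ⟨c, hc⟩ := MulAction.exists_smul_eq G S P
  set R' := ((R : Subgroup (centralizer ({x} : Set G))).map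
    (centralizer ({x} : Set G)).subtype).map (MulAut.conj c).toMonoidHom with hR'
  have hR'P : R' ≤ (P : Subgroup G) := by
    rw [← hc]
    exact Subgroup.map_mono hS
  have hd : R'.relIndex (P : Subgroup G) ∣ p := by
    have e1 := relIndex_mul_relIndex ⊥ _ _ bot_le hR'P
    rw [relIndex_bot_left, relIndex_bot_left] at e1
    obtain ⟨k, hk⟩ := IsPGroup.iff_card.mp P.2
    obtain ⟨j, -, hj⟩ := (Nat.dvd_prime_pow hp.out).mp (hk ▸ Dvd.intro_left _ e1 :
      R'.relIndex (P : Subgroup G) ∣ p ^ k)
    rw [hj]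
    refine (pow_dvd_pow p (?_ : j ≤ 1)).trans (pow_one p).dvd
    have e2 : Nat.card R' = p ^ (Nat.card (centralizer ({x} : Set G))).factorization p := by
      rw [hR', card_map_of_injective (MulAut.conj c).injective,
        card_map_of_injective (centralizer ({x} : Set G)).subtype_injective, R.card_eq_multiplicity]
    rw [e2, hj, ← pow_add, P.card_eq_multiplicity] at e1
    have e3 := Nat.pow_right_injective hp.out.two_le e1
    have e4 := fact_index (p := p) (centralizer ({x} : Set G))
    have h6 : ¬ 2 ≤ (centralizer ({x} : Set G)).index.factorization p := fun h =>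
      hcls x ((hp.out.pow_dvd_iff_le_factorization index_ne_zero_of_finite).mpr h)
    omega
  obtain ⟨v, hv, hve⟩ := hzmem R' hR'P hd
  refine hx c⁻¹ (mem_cent.mpr ?_)
  have h1 : Commute (c * x * c⁻¹) (c * v * c⁻¹) :=
    (mem_cent.mp (map_subtype_le _ hv)).symm.map (MulAut.conj c).toMonoidHom
  rw [show c * v * c⁻¹ = z from hve] at h1
  simpa using h1

theorem pow_mem_of_relIndex_dvd {p : ℕ} [hp : Fact p.Prime] {P W : Subgroup G} (hP : IsPGroup p P)
    (hWP : W ≤ P) (hd : W.relIndex P ∣ p) :
    (W.subgroupOf P).Normal ∧ (∀ v ∈ P, v ^ p ∈ W) ∧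
      ∀ a ∈ P, ∀ b ∈ P, a * b * a⁻¹ * b⁻¹ ∈ W := by
  rcases (Nat.dvd_prime hp.out).mp hd with h1 | h1
  · have hle : P ≤ W := relIndex_eq_one.mp h1
    refine ⟨?_, fun v hv => hle (pow_mem hv p), fun a ha b hb =>
      hle (mul_mem (mul_mem (mul_mem ha hb) (inv_mem ha)) (inv_mem hb))⟩
    rw [subgroupOf_eq_top.mpr hle]
    infer_instance
  haveI := hP.isNilpotent
  have hn : (W.subgroupOf P).Normal := by
    refine normalizer_eq_top_iff.mp ?_
    by_contra hne
    have hlt := Group.normalizerCondition_of_isNilpotent (G := P) (W.subgroupOf P)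
      (lt_top_iff_ne_top.mpr fun ht => by
        rw [relIndex, ht, index_top] at h1; exact hp.out.one_lt.ne h1)
    have e := relIndex_mul_index hlt.le
    rw [show (W.subgroupOf P).index = p from h1] at e
    rcases (Nat.dvd_prime hp.out).mp (Dvd.intro_left _ e) with h2 | h2
    · exact hne (index_eq_one.mp h2)
    · rw [h2, mul_eq_right₀ hp.out.ne_zero] at e
      exact hlt.not_ge (relIndex_eq_one.mp e)
  haveI := hn
  have hQ : Nat.card (P ⧸ W.subgroupOf P) = p := by rw [← index_eq_card]; exact h1
  haveI : IsCyclic (P ⧸ W.subgroupOf P) := isCyclic_of_prime_card hQ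
  refine ⟨hn, fun v hv => ?_, fun a ha b hb => ?_⟩
  · have h2 : ((⟨v, hv⟩ : P) : P ⧸ W.subgroupOf P) ^ p = 1 := hQ ▸ pow_card_eq_one'
    rw [← QuotientGroup.mk_pow, QuotientGroup.eq_one_iff, mem_subgroupOf] at h2
    exact h2
  · have h2 : ((⟨a, ha⟩ * ⟨b, hb⟩ * ⟨a, ha⟩⁻¹ * ⟨b, hb⟩⁻¹ : P) : P ⧸ W.subgroupOf P) = 1 := by
      rw [QuotientGroup.mk_mul, QuotientGroup.mk_mul, QuotientGroup.mk_mul, QuotientGroup.mk_inv,
        QuotientGroup.mk_inv]
      letI := IsCyclic.commGroup (α := P ⧸ W.subgroupOf P)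
      rw [mul_comm (QuotientGroup.mk _) (QuotientGroup.mk _), mul_inv_cancel_right, mul_inv_cancel]
    rw [QuotientGroup.eq_one_iff, mem_subgroupOf] at h2
    exact h2

/-- With trivial centre the Sylow subgroup of a prime whose square divides no class size is
commutative. -/
theorem sylow_comm_of_center_bot {p : ℕ} [hp : Fact p.Prime] (hcls : ∀ x : G, ¬ p ^ 2 ∣ cs x)
    (hZ : center G = ⊥) (P : Sylow p G) :
    ∀ a ∈ (P : Subgroup G), ∀ b ∈ (P : Subgroup G), Commute a b := by
  by_contra hnc
  set D := ⁅(P : Subgroup G), (P : Subgroup G)⁆ with hD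
  have hDP : D ≤ (P : Subgroup G) := commutator_le.mpr fun a ha b hb => by
    rw [commutatorElement_def]
    exact mul_mem (mul_mem (mul_mem ha hb) (inv_mem ha)) (inv_mem hb)
  have hDne : D.subgroupOf (P : Subgroup G) ≠ ⊥ := fun h => hnc fun a ha b hb => by
    have h1 : (⟨⁅a, b⁆, hDP (commutator_mem_commutator ha hb)⟩ : (P : Subgroup G)) ∈
        D.subgroupOf (P : Subgroup G) := mem_subgroupOf.mpr (commutator_mem_commutator ha hb)
    rw [h, Subgroup.mem_bot] at h1
    exact commutatorElement_eq_one_iff_commute.mp (congrArg Subtype.val h1)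
  haveI : (D.subgroupOf (P : Subgroup G)).Normal := by
    refine ⟨fun x hx g => mem_subgroupOf.mpr ?_⟩
    have hle : D.map (MulAut.conj (g : G)).toMonoidHom ≤ D := by
      rw [hD, map_commutator]
      refine commutator_mono ?_ ?_ <;>
      · rintro _ ⟨v, hv, rfl⟩
        exact mul_mem (mul_mem g.2 hv) (inv_mem g.2)
    exact hle ⟨_, mem_subgroupOf.mp hx, rfl⟩
  haveI := P.2.isNilpotent
  obtain ⟨z, hz, hz1⟩ := (bot_or_exists_ne_one _).resolve_left
    (Cfsg.Lib.Coprime.inf_center_ne_bot (D.subgroupOf (P : Subgroup G)) hDne)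
  refine hz1 (Subtype.ext (?_ : (z : G) = 1))
  rw [← Subgroup.mem_bot, ← hZ]
  refine sylow_inner_le_center hcls P z.2 fun W hWP hd => ?_
  refine (commutator_le.mpr fun a ha b hb => ?_ : D ≤ W) (mem_subgroupOf.mp hz.1)
  rw [commutatorElement_def]
  exact (pow_mem_of_relIndex_dvd P.2 hWP hd).2.2 a ha b hb

/-- Groups in which no class size is divisible by the square of a prime are solvable. -/
theorem solvable (n : ℕ) : ∀ (G : Type u) [Group G] [Finite G], Nat.card G ≤ n →
    (∀ x : G, Squarefree (cs x)) → Group.IsSolvable G := by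
  induction n with
  | zero => intro G _ _ hc; exact absurd hc (by have := Nat.card_pos (α := G); omega)
  | succ n ih =>
    intro G _ _ hcard hsf
    by_contra hns
    have hnt : Nontrivial G := by
      by_contra h
      haveI := not_nontrivial_iff_subsingleton.mp h
      exact hns inferInstance
    have hsimple : ∀ N : Subgroup G, N.Normal → N = ⊥ ∨ N = ⊤ := by
      intro N hN
      by_contra h
      push Not at h
      haveI := hN
      have h1 : Nat.card N < Nat.card G := lt_of_le_of_ne
        (Nat.le_of_dvd Nat.card_pos (card_subgroup_dvd_card N)) fun he => h.2 (eq_top_of_card_eq N he)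
      haveI := ih N (by omega) fun x => (hsf x).squarefree_of_dvd (cs_normal_dvd N x)
      have h2 := Cfsg.Lib.Coprime.card_quotient_lt h.1
      haveI := ih (G ⧸ N) (by omega) fun x => by
        obtain ⟨g, rfl⟩ := QuotientGroup.mk'_surjective N x
        exact (hsf g).squarefree_of_dvd (cs_quotient_dvd N g)
      exact hns (Group.isSolvable_of_ker_le_range N.subtype (QuotientGroup.mk' N)
        (by rw [QuotientGroup.ker_mk', range_subtype]))
    have hZ : center G = ⊥ := (hsimple _ inferInstance).resolve_right fun h =>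
      hns (Group.isSolvable_of_comm fun a b =>
        (Subgroup.mem_center_iff.mp (h ▸ mem_top b : b ∈ center G) a))
    obtain ⟨p, hpd, hmin⟩ : ∃ p, (p.Prime ∧ p ∣ Nat.card G) ∧
        ∀ r, r.Prime → r ∣ Nat.card G → p ≤ r := by
      have hne : Nat.card G ≠ 1 := fun h => by
        have := Finite.one_lt_card (α := G); omega
      exact ⟨_, ⟨Nat.minFac_prime hne, Nat.minFac_dvd _⟩, fun r hr hd => Nat.minFac_le_of_dvd hr.two_le hd⟩
    haveI := Fact.mk hpd.1
    obtain ⟨P⟩ : Nonempty (Sylow p G) := inferInstance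
    have hcls : ∀ x : G, ¬ p ^ 2 ∣ cs x := fun x hd =>
      hpd.1.ne_one (Nat.isUnit_iff.mp (hsf x p (by rwa [← pow_two])))
    obtain ⟨N, hN, hNp, hNall⟩ := compl_of_abelian _ G le_rfl hmin P
      (sylow_comm_of_center_bot hcls hZ P) fun x _ => hcls x
    rcases hsimple N hN with h | h
    · refine hns ?_
      haveI : Group.IsNilpotent G := by
        refine (IsPGroup.of_card (p := p) (n := (Nat.card G).primeFactorsList.length)
          (Nat.eq_prime_pow_of_unique_prime_dvd Nat.card_pos.ne' fun {r} hr hd => ?_)).isNilpotent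
        by_contra hrp
        haveI := Fact.mk hr
        obtain ⟨g, hg⟩ := exists_prime_orderOf_dvd_card' (G := G) r hd
        have := hNall g (by rw [hg]; exact (Nat.coprime_primes hr hpd.1).mpr hrp)
        rw [h, Subgroup.mem_bot] at this
        rw [this, orderOf_one] at hg
        exact hr.ne_one hg.symm
      infer_instance
    · rw [h, card_top] at hNp
      exact hpd.1.ne_one ((Nat.coprime_self p).mp (hNp.coprime_dvd_left hpd.2))

/-- A solvable group is supersolvable when every primary element has a square-free class size. -/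
theorem supersolvable (n : ℕ) : ∀ (G : Type u) [Group G] [Finite G], Nat.card G ≤ n →
    Group.IsSolvable G → (∀ (r : ℕ) (x : G), r.Prime → PEl r x → Squarefree (cs x)) →
    Cfsg.IsSupersolvable G := by
  induction n with
  | zero => intro G _ _ hc; exact absurd hc (by have := Nat.card_pos (α := G); omega)
  | succ n ih =>
    intro G _ _ hcard hsol hsf
    rcases subsingleton_or_nontrivial G with hs | hnt
    · exact Cfsg.Lib.SolvStruct.isSupersolvable_of_cycTop (by
        rw [Subsingleton.elim (⊥ : Subgroup G) ⊤]; exact Cfsg.Lib.SolvStruct.CycTop.top)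
    obtain ⟨V, -, hVn, hVne, hmin⟩ := Cfsg.Lib.Coprime.exists_minimal_normal
      (inferInstance : (⊤ : Subgroup G).Normal) (fun h => bot_ne_top (α := Subgroup G) h.symm)
    haveI := hVn
    obtain ⟨hVc, p, hp, hVp, hVe⟩ := Cfsg.Lib.Coprime.minimal_normal_solvable
      (inferInstance : Group.IsSolvable V) hVne hmin
    haveI := Fact.mk hp
    have hQ : Cfsg.IsSupersolvable (G ⧸ V) := by
      have hlt := Cfsg.Lib.Coprime.card_quotient_lt hVne
      refine ih (G ⧸ V) (by omega) inferInstance fun r x hr hx => ?_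
      obtain ⟨g, rfl⟩ := QuotientGroup.mk'_surjective V x
      obtain ⟨a, b, hab, ha, -, hap, hbr⟩ := exists_parts hr g
      have hb1 : QuotientGroup.mk' V b = 1 := by
        have h2 : QuotientGroup.mk' V b = (QuotientGroup.mk' V a)⁻¹ * QuotientGroup.mk' V g := by
          rw [hab, map_mul, inv_mul_cancel_left]
        obtain ⟨i, hi⟩ := hap
        obtain ⟨j, hj⟩ := hx
        obtain ⟨l, -, hl⟩ := (Nat.dvd_prime_pow hr).mp (hi ▸ orderOf_map_dvd (QuotientGroup.mk' V) a)
        have hc : Commute (QuotientGroup.mk' V a)⁻¹ (QuotientGroup.mk' V g) := by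
          refine Commute.inv_left (Commute.map ?_ _)
          obtain ⟨i', rfl⟩ := mem_zpowers_iff.mp ha
          exact (Commute.refl g).zpow_left i'
        refine orderOf_eq_one_iff.mp (Nat.eq_one_of_dvd_coprimes (hbr.pow_right (l + j))
          (orderOf_map_dvd _ b) ?_)
        rw [h2]
        refine hc.orderOf_mul_dvd_lcm.trans ?_
        rw [orderOf_inv, hl, hj, pow_add]
        exact Nat.lcm_dvd (Dvd.intro _ rfl) (Dvd.intro_left _ rfl)
      have he : QuotientGroup.mk' V g = QuotientGroup.mk' V a := by rw [hab, map_mul, hb1, mul_one]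
      rw [he]
      exact (hsf r a hr hap).squarefree_of_dvd (cs_quotient_dvd V a)
    suffices hcard' : Nat.card V = p by
      haveI : IsCyclic V := isCyclic_of_prime_card hcard'
      exact Cfsg.Lib.SolvStruct.isSupersolvable_of_quotient V hQ
    set C := centralizer (V : Set G) with hC
    by_contra hVcard
    obtain ⟨k, hk⟩ := IsPGroup.iff_card.mp hVp
    have hk2 : 2 ≤ k := by
      rcases k with _ | _ | k
      · rw [pow_zero] at hk; exact absurd (Subgroup.card_eq_one.mp hk) hVne
      · rw [pow_one] at hk; exact absurd hk hVcard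
      · omega
    by_cases hCtop : C = ⊤
    · -- central minimal normal subgroup
      obtain ⟨⟨v, hv⟩, hvo⟩ := exists_prime_orderOf_dvd_card' (G := V) p
        (hk ▸ dvd_pow_self p (by omega))
      rw [Subgroup.orderOf_mk] at hvo
      have hvc : v ∈ center G := Subgroup.mem_center_iff.mpr fun g =>
        (mem_centralizer_iff.mp (hCtop ▸ mem_top g : g ∈ C) v hv).symm
      haveI : (zpowers v).Normal := ⟨fun w hw g => by
        have hwc : w ∈ center G := zpowers_le.mpr hvc hw
        rwa [(Subgroup.mem_center_iff.mp hwc g : g * w = w * g), mul_inv_cancel_right]⟩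
      rcases hmin (zpowers v) inferInstance (zpowers_le.mpr hv) with h | h
      · rw [zpowers_eq_bot] at h
        rw [h, orderOf_one] at hvo
        exact hp.ne_one hvo.symm
      · exact hVcard (by rw [← h, Nat.card_zpowers, hvo])
    have hVC : V ≤ C := fun v hv => mem_centralizer_iff.mpr fun w hw =>
      congrArg Subtype.val (hVc.is_comm.comm ⟨w, hw⟩ ⟨v, hv⟩)
    haveI : C.Normal := by rw [hC]; infer_instance
    haveI : Nontrivial (G ⧸ C) := by
      obtain ⟨g, -, hg⟩ := SetLike.exists_of_lt (lt_top_iff_ne_top.mpr hCtop)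
      exact ⟨⟨(g : G ⧸ C), 1, fun h => hg ((QuotientGroup.eq_one_iff g).mp h)⟩⟩
    have hH : Cfsg.IsSupersolvable (G ⧸ C) :=
      Cfsg.Lib.SolvStruct.isSupersolvable_of_surjective hQ
        (QuotientGroup.map V C (MonoidHom.id G) hVC) fun x => by
          obtain ⟨g, rfl⟩ := QuotientGroup.mk'_surjective C x
          exact ⟨QuotientGroup.mk g, rfl⟩
    obtain ⟨R, hRn, hRp⟩ := Cfsg.Lib.Supersolvable.exists_normal_prime_card hH
    set r := Nat.card R with hr
    haveI := Fact.mk hRp
    set R₀ := R.comap (QuotientGroup.mk' C) with hR₀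
    haveI : R₀.Normal := hRn.comap _
    obtain ⟨h₀, hh₀, hh₀C⟩ : ∃ h ∈ R₀, h ∉ C := by
      by_contra h
      push Not at h
      obtain ⟨⟨x, hx⟩, hx1⟩ := exists_prime_orderOf_dvd_card' (G := R) r dvd_rfl
      rw [Subgroup.orderOf_mk] at hx1
      obtain ⟨g, rfl⟩ := QuotientGroup.mk'_surjective C x
      rw [QuotientGroup.mk'_apply, (QuotientGroup.eq_one_iff g).mpr (h g hx), orderOf_one] at hx1
      exact hRp.ne_one hx1.symm
    have hgen : ∀ h ∈ R₀, h ∉ C → ∀ w ∈ R₀, ∃ i : ℤ, h ^ i * w ∈ C := by
      intro h hh hhC w hw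
      obtain ⟨i, hi⟩ := mem_zpowers_iff.mp (mem_zpowers_of_prime_card (G := R) hr.symm
        (g := ⟨(h : G ⧸ C), hh⟩) (g' := ⟨(w : G ⧸ C), hw⟩) fun e =>
          hhC ((QuotientGroup.eq_one_iff h).mp (congrArg Subtype.val e)))
      refine ⟨-i, (QuotientGroup.eq_one_iff _).mp ?_⟩
      have hi' : (h : G ⧸ C) ^ i = (w : G ⧸ C) := by simpa using congrArg Subtype.val hi
      rw [QuotientGroup.mk_mul, QuotientGroup.mk_zpow, zpow_neg, hi', inv_mul_cancel]
    -- the fixed points of `R₀` are trivial
    set F := V ⊓ centralizer (R₀ : Set G) with hF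
    have hFbot : F = ⊥ := by
      refine (hmin F inferInstance inf_le_left).resolve_right fun hFV => hh₀C ?_
      refine mem_centralizer_iff.mpr fun v hv => ?_
      have : v ∈ F := hFV ▸ hv
      exact (mem_centralizer_iff.mp this.2 h₀ hh₀).symm
    -- an element of `r`-power order
    obtain ⟨a, b, hab, ha, -, hap, hbr⟩ := exists_parts hRp h₀
    have haR : a ∈ R₀ := zpowers_le.mpr hh₀ ha
    have haC : a ∉ C := fun haC => by
      have hb1 : (b : G ⧸ C) = (h₀ : G ⧸ C) := by
        rw [hab, QuotientGroup.mk_mul, (QuotientGroup.eq_one_iff a).mpr haC, one_mul]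
      have h1 : orderOf (h₀ : G ⧸ C) ∣ r := by
        rw [← Subgroup.orderOf_mk (h₀ : G ⧸ C) hh₀, hr]
        exact _root_.orderOf_dvd_natCard _
      refine hh₀C ((QuotientGroup.eq_one_iff h₀).mp (orderOf_eq_one_iff.mp
        (Nat.eq_one_of_dvd_coprimes hbr ?_ h1)))
      rw [← hb1]
      exact orderOf_map_dvd (QuotientGroup.mk' C) b
    have hfix : ∀ v ∈ V, Commute a v → v = 1 := by
      intro v hv hav
      rw [← Subgroup.mem_bot, ← hFbot]
      refine ⟨hv, mem_centralizer_iff.mpr fun w hw => ?_⟩
      obtain ⟨i, hi⟩ := hgen a haR haC w hw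
      have h1 : Commute (a ^ i * w) v := (mem_centralizer_iff.mp hi v hv).symm
      have h2 := (hav.zpow_left i).inv_left.mul_left h1
      rw [inv_mul_cancel_left] at h2
      exact h2.eq
    have hdvd : Nat.card V ∣ cs a := by
      set Ca := centralizer ({a} : Set G)
      have hinf : V ⊓ Ca = ⊥ := (eq_bot_iff_forall _).mpr fun v hv =>
        hfix v hv.1 (mem_cent.mp hv.2).symm
      have h1 := Cfsg.Lib.Coprime.card_sup_mul_card_inf
        (show Ca ≤ normalizer (V : Set G) from le_normalizer_of_normal)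
      rw [hinf, card_bot, mul_one] at h1
      have h2 : Nat.card V * Nat.card Ca ∣ Nat.card Ca * cs a := by
        rw [Ca.card_mul_index, ← h1]
        exact card_subgroup_dvd_card _
      rw [mul_comm] at h2
      exact Nat.dvd_of_mul_dvd_mul_left Nat.card_pos h2
    have h2 : p * p ∣ cs a := by
      rw [← pow_two]
      exact ((pow_dvd_pow p hk2).trans hk.symm.dvd).trans hdvd
    exact hp.ne_one (Nat.isUnit_iff.mp (hsf r a hRp hap p h2))

end Cfsg.Lib.SquareFreeClasses
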